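import Mathlib

/-!
# Residues of powers of two modulo a Fermat or Mersenne prime
-/

namespace Cfsg.Agent.DefectOne.SmallCofactorArith

/-- `p = 2 ^ k + σ'` with `σ = -σ'`, so that `2 ^ k ≡ σ`. -/
def Near (p k : ℕ) (σ : ℤ) : Prop :=
  (σ = 1 ∧ p + 1 = 2 ^ k) ∨ (σ = -1 ∧ p = 2 ^ k + 1)

theorem Near.modEq {p k : ℕ} {σ : ℤ} (h : Near p k σ) : (2 : ℤ) ^ k ≡ σ [ZMOD p] := by
  rw [Int.modEq_iff_dvd]
  rcases h with ⟨rfl, h⟩ | ⟨rfl, h⟩
  · have : (2 : ℤ) ^ k = p + 1 := by exact_mod_cast h.symm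
    exact ⟨-1, by rw [this]; ring⟩
  · have : (p : ℤ) = 2 ^ k + 1 := by exact_mod_cast h
    exact ⟨-1, by rw [this]; ring⟩

theorem Near.sign {p k : ℕ} {σ : ℤ} (h : Near p k σ) : σ = 1 ∨ σ = -1 := by
  rcases h with ⟨rfl, -⟩ | ⟨rfl, -⟩ <;> simp

/-- Every power of two is `±` one of exponent `< k`; the exponent and sign are explicit. -/
theorem pow_residue {p k : ℕ} {σ : ℤ} (h : Near p k σ) (i : ℕ) :
    (2 : ℤ) ^ i ≡ σ ^ (i / k) * 2 ^ (i % k) [ZMOD p] := by
  conv_lhs => rw [← Nat.div_add_mod i k, pow_add, pow_mul]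
  exact (h.modEq.pow _).mul_right _

theorem sign_pow {σ : ℤ} (h : σ = 1 ∨ σ = -1) (n : ℕ) : σ ^ n = 1 ∨ σ ^ n = -1 := by
  rcases h with rfl | rfl
  · simp
  · exact neg_one_pow_eq_or ℤ n

/-- A power of two congruent to `±1` has exponent divisible by `k`, with the expected sign. -/
theorem log_residue {p k : ℕ} {σ τ : ℤ} (h : Near p k σ) (hp : 5 ≤ p) (hτ : τ = 1 ∨ τ = -1)
    {i : ℕ} (hi : (2 : ℤ) ^ i ≡ τ [ZMOD p]) : k ∣ i ∧ σ ^ (i / k) = τ := by
  have hk2 : 2 ≤ k := by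
    by_contra hk
    have : 2 ^ k ≤ 2 := by
      calc 2 ^ k ≤ 2 ^ 1 := Nat.pow_le_pow_right two_pos (by omega)
        _ = 2 := rfl
    rcases h with ⟨-, h⟩ | ⟨-, h⟩ <;> omega
  have hlt : i % k < k := Nat.mod_lt _ (by omega)
  have hr2 : 2 ^ (i % k) * 2 ≤ 2 ^ k := by
    rw [← pow_succ]
    exact Nat.pow_le_pow_right two_pos hlt
  have h1 := (pow_residue h i).symm.trans hi
  rw [Int.modEq_iff_dvd] at h1
  obtain ⟨c, hc⟩ := h1
  have hr1 : 1 ≤ 2 ^ (i % k) := Nat.one_le_two_pow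
  have hbig : (2 ^ (i % k) : ℤ) + 1 < p := by
    have hlt' : 2 ^ (i % k) + 1 < p := by
      have h4 : 4 ≤ 2 ^ k := by
        calc 4 = 2 ^ 2 := rfl
          _ ≤ 2 ^ k := Nat.pow_le_pow_right two_pos hk2
      rcases h with ⟨-, h⟩ | ⟨-, h⟩ <;> omega
    exact_mod_cast hlt'
  have hr1' : (1 : ℤ) ≤ 2 ^ (i % k) := by exact_mod_cast hr1
  have hc0 : c = 0 := by
    rcases sign_pow h.sign (i / k) with e | e <;> rw [e] at hc <;> rcases hτ with rfl | rfl <;>
      rcases lt_trichotomy c 0 with hh | hh | hh <;> first | exact hh | nlinarith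
  rw [hc0, mul_zero, sub_eq_zero] at hc
  have hone : (2 : ℤ) ^ (i % k) = 1 := by
    rcases sign_pow h.sign (i / k) with e | e <;> rw [e] at hc <;> rcases hτ with rfl | rfl <;> linarith
  refine ⟨?_, by rw [hone, mul_one] at hc; exact hc.symm⟩
  refine Nat.dvd_of_mod_eq_zero ?_
  by_contra hne
  have : (2 : ℕ) ^ (i % k) = 1 := by exact_mod_cast hone
  rw [Nat.pow_eq_one] at this
  omega

/-- Odd numbers `≤ d = p - 2^(k-1)` congruent to `±` a power of two inverse. -/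
theorem odd_part {p k : ℕ} {σ ε : ℤ} (h : Near p k σ) (hp : 5 ≤ p) (hε : ε = 1 ∨ ε = -1)
    {d d' i : ℕ} (hd : d + 2 ^ (k - 1) = p) (hd1 : 1 ≤ d') (hodd : d' % 2 = 1) (hle : d' ≤ d)
    (hmod : ((2 ^ i * d' : ℕ) : ℤ) ≡ ε [ZMOD p]) : d' = 1 ∨ d' = d := by
  have hk2 : 2 ≤ k := by
    by_contra hk
    have : 2 ^ k ≤ 2 := by
      calc 2 ^ k ≤ 2 ^ 1 := Nat.pow_le_pow_right two_pos (by omega)
        _ = 2 := rfl
    rcases h with ⟨-, h⟩ | ⟨-, h⟩ <;> omega
  push_cast at hmod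
  obtain ⟨τ, l, hτ, hl, hd'⟩ : ∃ τ : ℤ, ∃ l : ℕ, (τ = 1 ∨ τ = -1) ∧ l < k ∧
      (d' : ℤ) ≡ τ * 2 ^ l [ZMOD p] := by
    have h1 := ((pow_residue h i).mul_right (d' : ℤ)).symm.trans hmod
    have hs := sign_pow h.sign (i / k)
    set s := σ ^ (i / k) with hs'
    have hss : s * s = 1 := by rcases hs with e | e <;> rw [e] <;> norm_num
    by_cases hl0 : i % k = 0
    · refine ⟨s * ε, 0, ?_, by omega, ?_⟩
      · rcases hs with e | e <;> rcases hε with rfl | rfl <;> rw [e] <;> norm_num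
      · rw [hl0, pow_zero, mul_one] at h1
        have h2 := h1.mul_left s
        rw [← mul_assoc, hss, one_mul] at h2
        rw [pow_zero, mul_one]
        exact h2
    · refine ⟨s * σ * ε, k - i % k, ?_, by omega, ?_⟩
      · rcases hs with e | e <;> rcases hε with rfl | rfl <;> rcases h.sign with e' | e' <;>
          rw [e, e'] <;> norm_num
      · have hσσ : σ * σ = 1 := by rcases h.sign with e | e <;> rw [e] <;> norm_num
        have hmod' := Nat.mod_lt i (show 0 < k by omega)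
        have h2 := h1.mul_left ((2 : ℤ) ^ (k - i % k))
        rw [show (2 : ℤ) ^ (k - i % k) * (s * 2 ^ (i % k) * d') =
          2 ^ k * (s * d') by
            rw [← mul_assoc, ← mul_assoc, mul_comm _ s, mul_assoc s, ← pow_add,
              Nat.sub_add_cancel hmod'.le]; ring] at h2
        have h3 := ((h.modEq.mul_right (s * d')).symm.trans h2).mul_left (s * σ)
        rw [show s * σ * (σ * (s * (d' : ℤ))) = (σ * σ) * (s * s) * d' by ring, hσσ, hss, one_mul,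
          one_mul] at h3
        refine h3.trans ?_
        rw [show s * σ * (2 ^ (k - i % k) * ε) = s * σ * ε * 2 ^ (k - i % k) by ring]
  have hl2 : 2 ^ l * 2 ≤ 2 ^ k := by rw [← pow_succ]; exact Nat.pow_le_pow_right two_pos hl
  have hk1 : 2 ^ (k - 1) * 2 = 2 ^ k := by rw [← pow_succ, Nat.sub_add_cancel (by omega)]
  have h4 : 4 ≤ 2 ^ k := by
    calc 4 = 2 ^ 2 := rfl
      _ ≤ 2 ^ k := Nat.pow_le_pow_right two_pos hk2
  rw [Int.modEq_iff_dvd] at hd'
  obtain ⟨c, hc⟩ := hd'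
  obtain ⟨L, hL⟩ : ∃ L, L = 2 ^ l := ⟨_, rfl⟩
  have hLc : ((2 : ℤ) ^ l) = L := by rw [hL]; push_cast; rfl
  rw [hLc] at hc
  rw [← hL] at hl2
  have hL1 : 1 ≤ L := hL ▸ Nat.one_le_two_pow
  have hLp : L < p := by rcases h with ⟨-, h⟩ | ⟨-, h⟩ <;> omega
  have hdp : d' < p := by have : 0 < 2 ^ (k - 1) := Nat.two_pow_pos _; omega
  have hLp' : (L : ℤ) < p := by exact_mod_cast hLp
  have hdp' : (d' : ℤ) < p := by exact_mod_cast hdp
  rcases hτ with rfl | rfl
  · left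
    have hc0 : c = 0 := by
      rcases lt_trichotomy c 0 with hh | hh | hh <;> first | exact hh | nlinarith
    subst hc0
    have : L = d' := by omega
    subst this
    by_contra hne
    have hl0 : l ≠ 0 := by rintro rfl; simp at hL; omega
    have : 2 ∣ L := hL ▸ dvd_pow_self 2 hl0
    omega
  · right
    have hc1 : c = -1 := by
      rcases lt_trichotomy c (-1) with hh | hh | hh
      · have : c ≤ -2 := by omega
        nlinarith
      · exact hh
      · have : 0 ≤ c := by omega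
        nlinarith
    subst hc1
    have hsum : d' + L = p := by omega
    omega

end Cfsg.Agent.DefectOne.SmallCofactorArith
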