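import Cfsg.Agent.Lib.DefectOne.SelfCent
import Cfsg.Agent.Lib.Blocks.PrimePowerDegree
import Cfsg.Agent.Lib.Blocks.PPart
import Cfsg.Agent.Lib.CharInt.Kazarin
import Mathlib.GroupTheory.NoncommCoprod

/-!
# Tools for simple groups with a small cofactor (Brauer–Tuan)

A character of degree `< p` in the principal `p`-block forces `C_G(P) = P`; the sum of the
principal `2`-block over the principal `p`-block gives an integral relation on `2`-singular
elements, and such a relation bounds the Sylow `2`-subgroup.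
-/

set_option linter.style.haveILetI false
set_option linter.unusedSectionVars false

namespace Cfsg.Agent.DefectOne

open Cfsg Cfsg.Agent
open scoped ComplexConjugate Classical

universe u

variable {G : Type u} [Group G] [Fintype G]

/-- An integral combination of characters vanishing on the non-identity elements of a subgroup has
degree divisible by the order of that subgroup. -/
theorem dvd_of_vanish (Q : Subgroup G) (a : IrrCharacter G → ℤ)
    (h : ∀ u ∈ Q, u ≠ 1 → ∑ χ : IrrCharacter G, (a χ : ℂ) * χ.1 u = 0) :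
    (Nat.card Q : ℤ) ∣ ∑ χ : IrrCharacter G, a χ * Char.degree χ := by
  choose n hn using fun χ : IrrCharacter G =>
    Char.IsCharacter.exists_nat_classInner (Char.IsCharacter.restrict (Char.irr_isCharacter χ) Q)
      (Char.irr_isCharacter (Char.trivialChar Q))
  refine ⟨∑ χ, a χ * n χ, ?_⟩
  have hQ0 : (Nat.card Q : ℂ) ≠ 0 := Nat.cast_ne_zero.2 Nat.card_pos.ne'
  have h1 : ∀ χ, ∑ u : Q, χ.1 u = (Nat.card Q : ℂ) * n χ := fun χ => by
    have := hn χ
    simp only [classInner, Char.trivialChar_apply, map_one, mul_one] at this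
    rw [← this, ← mul_assoc, mul_inv_cancel₀ hQ0, one_mul]
  have h2 : ((∑ χ : IrrCharacter G, a χ * Char.degree χ : ℤ) : ℂ) =
      ((Nat.card Q * ∑ χ, a χ * (n χ : ℤ) : ℤ) : ℂ) := by
    push_cast
    rw [Finset.mul_sum]
    calc ∑ χ : IrrCharacter G, (a χ : ℂ) * (Char.degree χ : ℂ)
        = ∑ u : Q, ∑ χ : IrrCharacter G, (a χ : ℂ) * χ.1 u := by
          rw [Finset.sum_eq_single (1 : Q) (fun u _ hu => h u u.2 fun e => hu (Subtype.ext e))
            (fun hh => absurd (Finset.mem_univ _) hh)]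
          simp [Char.apply_one_eq_degree]
      _ = _ := by
          rw [Finset.sum_comm]
          refine Finset.sum_congr rfl fun χ _ => ?_
          rw [← Finset.mul_sum, h1]
          ring
  exact_mod_cast h2

variable {p : ℕ} [hp : Fact p.Prime] {P : Sylow p G} {M : Ideal AlgInt} [M.IsMaximal]

/-- Elements of order divisible by `p` have order `p`. -/
theorem SelfCent.orderOf_eq (h : SelfCent P) {u : G} (hu : p ∣ orderOf u) : orderOf u = p := by
  set w := u ^ (orderOf u / p) with hw
  have hwp : orderOf w = p := orderOf_pow_orderOf_div (orderOf_pos u).ne' hu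
  have hz : IsPGroup p (Subgroup.zpowers w) :=
    IsPGroup.of_card (n := 1) (by rw [Nat.card_zpowers, hwp, pow_one])
  obtain ⟨R, hR⟩ := hz.exists_le_sylow
  obtain ⟨g, hg⟩ := MulAction.exists_smul_eq G R P
  have hwP : g * w * g⁻¹ ∈ (P : Subgroup G) := by
    rw [← hg, Sylow.coe_subgroup_smul]
    have := Subgroup.smul_mem_pointwise_smul w (MulAut.conj g) _ (hR (Subgroup.mem_zpowers w))
    simpa [MulAut.conj_apply] using this
  have hw1 : g * w * g⁻¹ ≠ 1 := fun e => by
    rw [conj_eq_one_iff] at e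
    rw [e, orderOf_one] at hwp
    exact hp.out.one_lt.ne hwp
  have hmem : g * u * g⁻¹ ∈ (P : Subgroup G) := by
    rw [← h.centralizer_singleton hwP hw1, Subgroup.mem_centralizer_singleton_iff]
    rw [hw]
    have : Commute u (u ^ (orderOf u / p)) := Commute.pow_right (Commute.refl u) _
    calc g * u * g⁻¹ * (g * u ^ (orderOf u / p) * g⁻¹)
        = g * (u * u ^ (orderOf u / p)) * g⁻¹ := by group
      _ = g * (u ^ (orderOf u / p) * u) * g⁻¹ := by rw [this.eq]
      _ = _ := by group
  have h1 : orderOf (g * u * g⁻¹) ∣ p := h.card ▸ Subgroup.orderOf_dvd_natCard _ hmem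
  rw [show g * u * g⁻¹ = MulAut.conj g u by simp [MulAut.conj_apply],
    MulEquiv.orderOf_eq] at h1
  rcases (Nat.dvd_prime hp.out).1 h1 with h2 | h2
  · rw [h2] at hu
    exact absurd hu hp.out.not_dvd_one
  · exact h2

/-- A faithful character of degree `< p` in the principal block forces `C_G(P) = P`. -/
theorem selfCent_of_small_degree (hP : Nat.card P = p) (hpM : (p : AlgInt) ∈ M)
    {χ : IrrCharacter G} (hχ : χ ∈ principalBlock M G)
    (hfaith : ∀ g : G, χ.1 g = χ.1 1 → g = 1) (hlt : Char.degree χ < p) : SelfCent P := by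
  refine ⟨hP, ?_⟩
  have hF := freeData_of_card_eq hP
  have hle : (P : Subgroup G) ≤ Subgroup.centralizer ((P : Subgroup G) : Set G) := fun a ha b hb =>
    hF.mul_comm hb ha
  refine (P.3 (fun g => ?_) hle)
  -- every element of the centraliser is a `p`-element
  have key : ∀ v ∈ Subgroup.centralizer ((P : Subgroup G) : Set G), IsPRegular p v → v = 1 := by
    intro v hv hvr
    have hcommA : ∀ a b : (P : Subgroup G), a * b = b * a := fun a b =>
      Subtype.ext (hF.mul_comm a.2 b.2)
    have hres := Char.IsCharacter.restrict (Char.irr_isCharacter χ) (P : Subgroup G)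
    obtain ⟨n, hn, hni⟩ := Char.IsCharacter.exists_decomp hres
    have hd : Char.degree χ = ∑ l, n l := by
      have h2 := congrFun hn 1
      simp only [Finset.sum_apply, Pi.smul_apply, smul_eq_mul, Subgroup.coe_one,
        Char.apply_one_of_comm hcommA, mul_one, Char.apply_one_eq_degree] at h2
      exact_mod_cast h2
    obtain ⟨l, hl⟩ : ∃ l, n l = 0 := by
      by_contra hcon
      push Not at hcon
      have h1 : ∀ l ∈ (Finset.univ : Finset (IrrCharacter (P : Subgroup G))), 1 ≤ n l :=
        fun l _ => Nat.one_le_iff_ne_zero.2 (hcon l)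
      have h2 := Finset.card_nsmul_le_sum _ _ _ h1
      rw [smul_eq_mul, mul_one, Finset.card_univ, hF.card_irr,
        show Nat.card P = p from hP, ← hd] at h2
      omega
    -- the product map
    let φ : ↥(P : Subgroup G) × ↥(Subgroup.zpowers v) →* G :=
      MonoidHom.noncommCoprod (P : Subgroup G).subtype (Subgroup.zpowers v).subtype fun a b => by
        obtain ⟨k, hk⟩ := Subgroup.mem_zpowers_iff.1 b.2
        have : Commute (a : G) v := Subgroup.mem_centralizer_iff.1 hv a a.2
        show Commute (a : G) (b : G)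
        rw [← hk]
        exact this.zpow_right k
    haveI := Fintype.ofFinite (Subgroup.zpowers v)
    have hH : ∀ a b : ↥(P : Subgroup G) × ↥(Subgroup.zpowers v), a * b = b * a := fun a b =>
      Prod.ext (hcommA a.1 b.1) (Subtype.ext (by
        obtain ⟨i, hi⟩ := Subgroup.mem_zpowers_iff.1 a.2.2
        obtain ⟨j, hj⟩ := Subgroup.mem_zpowers_iff.1 b.2.2
        show (a.2 : G) * b.2 = b.2 * a.2
        rw [← hi, ← hj, ← zpow_add, ← zpow_add, add_comm]))
    obtain ⟨c, hc, -⟩ := Char.IsCharacter.exists_decomp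
      (Char.IsCharacter.comp (Char.irr_isCharacter χ) φ)
    have hlin : ∀ μ : IrrCharacter (↥(P : Subgroup G) × ↥(Subgroup.zpowers v)),
        ∃ f : (↥(P : Subgroup G) × ↥(Subgroup.zpowers v)) →* ℂ, μ.1 = ⇑f := fun μ => by
      obtain ⟨f, hf⟩ := Char.IsCharacter.exists_monoidHom (Char.irr_isCharacter μ)
        (Char.apply_one_of_comm hH μ)
      exact ⟨f, hf.symm⟩
    choose f hf using hlin
    -- the isotypic sums
    let σ : IrrCharacter (↥(P : Subgroup G) × ↥(Subgroup.zpowers v)) → ℂ := fun μ =>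
      ∑ u : (P : Subgroup G), f μ (u, 1) * conj (l.1 u)
    have hσ : ∀ μ, ∃ k : ℕ, σ μ = (p : ℂ) * k := fun μ => by
      obtain ⟨k, hk⟩ := Char.IsCharacter.exists_nat_classInner
        (Char.IsIrrCharacter.isCharacter (Char.isIrrCharacter_of_monoidHom
          ((f μ).comp (MonoidHom.inl _ _)))) (Char.irr_isCharacter l)
      refine ⟨k, ?_⟩
      rw [← hk, classInner, show Nat.card (P : Subgroup G) = p from hP, ← mul_assoc,
        mul_inv_cancel₀ (Nat.cast_ne_zero.2 hp.out.ne_zero), one_mul]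
      rfl

    choose k hk using hσ
    have hexp : ∀ w : Subgroup.zpowers v, ∑ u : (P : Subgroup G), χ.1 ((u : G) * w) * conj (l.1 u) =
        ∑ μ, (c μ : ℂ) * f μ (1, w) * σ μ := fun w => by
      simp only [σ, Finset.mul_sum]
      rw [Finset.sum_comm]
      refine Finset.sum_congr rfl fun u _ => ?_
      have := congrFun hc (u, w)
      simp only [Finset.sum_apply, Pi.smul_apply, smul_eq_mul, hf] at this
      rw [show χ.1 ((u : G) * w) = χ.1 (φ (u, w)) from rfl, this, Finset.sum_mul]
      refine Finset.sum_congr rfl fun μ _ => ?_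
      rw [show ((u, w) : ↥(P : Subgroup G) × ↥(Subgroup.zpowers v)) = (1, w) * (u, 1) by simp, map_mul]
      ring
    have hl0 : ∑ u : (P : Subgroup G), χ.1 u * conj (l.1 u) = 0 := by
      have := hni l
      rw [hl, classInner, Nat.cast_zero, mul_eq_zero,
        or_iff_right (inv_ne_zero (Nat.cast_ne_zero.2 Nat.card_pos.ne'))] at this
      exact this
    have hck : ∀ μ, c μ * k μ = 0 := by
      have h1 := hexp 1
      simp only [Subgroup.coe_one, mul_one, hl0, hk] at h1
      have h2 : ∀ μ, f μ (1, 1) = 1 := fun μ => map_one (f μ)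
      simp only [h2, mul_one, mul_left_comm _ (p : ℂ), ← Finset.mul_sum] at h1
      have h3 : ∑ μ, c μ * k μ = 0 := by
        exact_mod_cast (mul_eq_zero.1 h1.symm).resolve_left (Nat.cast_ne_zero.2 hp.out.ne_zero)
      exact fun μ => (Finset.sum_eq_zero_iff.1 h3) μ (Finset.mem_univ _)
    have hv0 : ∑ u : (P : Subgroup G), χ.1 ((u : G) * v) * conj (l.1 u) = 0 := by
      rw [hexp ⟨v, Subgroup.mem_zpowers v⟩]
      refine Finset.sum_eq_zero fun μ _ => ?_
      rw [hk]
      rcases Nat.mul_eq_zero.1 (hck μ) with e | e <;> simp [e]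
    rw [← Finset.add_sum_erase _ _ (Finset.mem_univ (1 : (P : Subgroup G)))] at hv0 hl0
    rw [Finset.sum_congr rfl fun u hu => by
      have hu1 : (u : G) ≠ 1 := fun e => (Finset.mem_erase.1 hu).1 (Subtype.ext e)
      rw [hF.apply_section hpM hχ (Blocks.isPPart_mul
        (Subgroup.mem_centralizer_iff.1 hv u u.2) (hF.exists_pow_orderOf u.2) hvr) u.2 hu1]] at hv0
    simp only [Subgroup.coe_one, one_mul, hF.linear, map_one, mul_one] at hv0 hl0
    exact hfaith v (by linear_combination hv0 - hl0)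
  obtain ⟨k, m', hm', hord⟩ := Nat.exists_eq_pow_mul_and_not_dvd (orderOf_pos (g : G)).ne' p
    hp.out.ne_one
  refine ⟨k, Subtype.ext ?_⟩
  have h1 : (g : G) ^ p ^ k = 1 := by
    refine key _ ((Subgroup.centralizer _).pow_mem g.2 _) fun hd => hm' ?_
    have : orderOf ((g : G) ^ p ^ k) ∣ m' := by
      refine orderOf_dvd_of_pow_eq_one ?_
      rw [← pow_mul, ← hord, pow_orderOf_eq_one]
    exact hd.trans this
  simpa using h1

/-- The principal `2`-block inside the principal `p`-block on a `2`-singular element. -/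
theorem SelfCent.two_block_relation (h : SelfCent P) (hpM : (p : AlgInt) ∈ M) (hp2 : p ≠ 2)
    {M₂ : Ideal AlgInt} [M₂.IsMaximal] (h2M : ((2 : ℕ) : AlgInt) ∈ M₂) {m t : ℕ}
    (S : PrimeShape P M m) (hY : S.Y.Nonempty) (ht : t * m = p - 1)
    (hS : ∀ θ ∈ S.Y, ∑ y ∈ Finset.univ.erase (1 : (P : Subgroup G)), θ.1 y = -(S.ε : ℂ) * m)
    {θ : IrrCharacter G} (hθ : θ ∈ S.Y) {u : G} (hu : 2 ∣ orderOf u) :
    (t : ℂ) * ∑ χ ∈ S.X.filter (· ∈ principalBlock M₂ G), (S.εX χ : ℂ) * χ.1 u -
      (S.ε : ℂ) * ((S.Y.filter (· ∈ principalBlock M₂ G)).card : ℂ) * θ.1 u = 0 := by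
  haveI : Fact (Nat.Prime 2) := ⟨Nat.prime_two⟩
  have hureg : IsPRegular p u := fun hd => hp2 (by
    rw [h.orderOf_eq hd] at hu
    exact ((Nat.prime_dvd_prime_iff_eq Nat.prime_two hp.out).1 hu).symm)
  obtain ⟨x, hx⟩ := Blocks.exists_isPPart (p := 2) u
  have hx1 : x ≠ 1 := by
    rintro rfl
    obtain ⟨y, hy, -, -, hy2⟩ := hx
    rw [one_mul] at hy
    exact hy2 (hy ▸ hu)
  have horth : ∀ y ∈ Finset.univ.erase (1 : (P : Subgroup G)),
      ∑ χ ∈ Finset.univ.filter (· ∈ principalBlock M₂ G), χ.1 y * conj (χ.1 u) = 0 := by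
    intro y hy
    have hy1 : (y : G) ≠ 1 := fun e => (Finset.mem_erase.1 hy).1 (Subtype.ext e)
    refine Blocks.block_orthogonality h2M (x := (1 : G)) ⟨y, one_mul _, Commute.one_left _, ⟨0, by simp⟩,
      fun hd => hp2 ?_⟩ hx (fun hc => hx1 ((isConj_one_right).1 hc))
      (Blocks.isPBlock_principalBlock (M := M₂) (G := G) h2M)
    have h1 : orderOf (y : G) ∣ p := by
      have h2 := Subgroup.orderOf_dvd_natCard _ y.2
      rwa [show Nat.card (P : Subgroup G) = p from h.card] at h2
    exact ((Nat.prime_dvd_prime_iff_eq Nat.prime_two hp.out).1 (hd.trans h1)).symm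
  have key : ∑ y ∈ Finset.univ.erase (1 : (P : Subgroup G)),
      (∑ χ ∈ S.X.filter (· ∈ principalBlock M₂ G), χ.1 y * conj (χ.1 u) +
        ∑ χ ∈ S.Y.filter (· ∈ principalBlock M₂ G), χ.1 y * conj (χ.1 u)) = 0 := by
    refine Finset.sum_eq_zero fun y hy => ?_
    rw [← horth y hy, ← Finset.sum_union (Finset.disjoint_filter_filter S.disj)]
    refine Finset.sum_subset (fun χ hχ => ?_) fun χ hχ hne => ?_
    · simp only [Finset.mem_union, Finset.mem_filter] at hχ
      rcases hχ with ⟨-, h'⟩ | ⟨-, h'⟩ <;> simp [h']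
    · rw [h.vanish hpM (fun hm => hne ?_) y.2 fun e => (Finset.mem_erase.1 hy).1 (Subtype.ext e),
        zero_mul]
      simp only [Finset.mem_union, Finset.mem_filter] at hχ ⊢
      rcases S.mem_XY hm with h' | h'
      · exact Or.inl ⟨h', hχ.2⟩
      · exact Or.inr ⟨h', hχ.2⟩
  rw [Finset.sum_add_distrib] at key
  have hX : ∑ y ∈ Finset.univ.erase (1 : (P : Subgroup G)),
      ∑ χ ∈ S.X.filter (· ∈ principalBlock M₂ G), χ.1 y * conj (χ.1 u) =
      ((p : ℂ) - 1) * ∑ χ ∈ S.X.filter (· ∈ principalBlock M₂ G), (S.εX χ : ℂ) * conj (χ.1 u) := by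
    rw [Finset.sum_congr rfl fun y hy => Finset.sum_congr rfl fun χ hχ => by
      rw [S.X_val χ (Finset.mem_filter.1 hχ).1 y (Finset.mem_erase.1 hy).1],
      Finset.sum_const, card_erase h.card, nsmul_eq_mul, Nat.cast_sub hp.out.one_le, Nat.cast_one]
  have hY' : ∑ y ∈ Finset.univ.erase (1 : (P : Subgroup G)),
      ∑ χ ∈ S.Y.filter (· ∈ principalBlock M₂ G), χ.1 y * conj (χ.1 u) =
      -(S.ε : ℂ) * m * ((S.Y.filter (· ∈ principalBlock M₂ G)).card : ℂ) * conj (θ.1 u) := by
    rw [Finset.sum_comm, Finset.sum_congr rfl fun χ hχ => by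
      rw [← Finset.sum_mul, hS χ (Finset.mem_filter.1 hχ).1,
        S.agree χ (Finset.mem_filter.1 hχ).1 θ hθ u hureg], Finset.sum_const, nsmul_eq_mul]
    ring
  have hpt : (p : ℂ) - 1 = (t : ℂ) * m := by
    have : p = t * m + 1 := by have := hp.out.one_lt; omega
    have h' : (p : ℂ) = t * m + 1 := by exact_mod_cast this
    linear_combination h'
  rw [hX, hY', hpt] at key
  have hm0 : (m : ℂ) ≠ 0 := by
    intro h0
    have h1 : m = 0 := by exact_mod_cast h0
    have h2 := hp.out.two_le
    subst h1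
    omega
  have key' : (t : ℂ) * ∑ χ ∈ S.X.filter (· ∈ principalBlock M₂ G), (S.εX χ : ℂ) * conj (χ.1 u) -
      (S.ε : ℂ) * ((S.Y.filter (· ∈ principalBlock M₂ G)).card : ℂ) * conj (θ.1 u) = 0 := by
    refine mul_left_cancel₀ hm0 ?_
    rw [mul_zero]
    linear_combination key
  have := congrArg (starRingEnd ℂ) key'
  simpa using this

end Cfsg.Agent.DefectOne
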