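import Cfsg.Agent.Lib.DefectOne.SmallCofactor.Setup
import Cfsg.Agent.Lib.DefectOne.SmallCofactor.Arith

/-!
# The Sylow `2`-subgroup of a simple group with a small cofactor

The generalised character cut out by the principal `2`-block inside the principal `p`-block
vanishes on `2`-singular elements and has degree `≡ 1` modulo `d`: this bounds `|G|₂`.
-/

set_option autoImplicit false
set_option linter.style.haveILetI false
set_option linter.unusedSectionVars false

namespace Cfsg.Agent.DefectOne.SmallCofactor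

open Cfsg Cfsg.Agent SmallCofactorArith
open scoped ComplexConjugate Classical

universe u

variable {G : Type u} [Group G] [Fintype G] {p b d e t : ℕ} [hp : Fact p.Prime] {P : Sylow p G}
  {M : Ideal AlgInt} [M.IsMaximal] {S : PrimeShape P M e} {θ : IrrCharacter G}

theorem Cofactor.b_pos (C : Cofactor p b d e t P M S θ) : 1 ≤ b := by
  by_contra hb
  have hb0 : b = 0 := by omega
  have h := C.sylow
  rw [hb0, pow_zero, mul_one] at h
  rcases C.kind with ⟨hε, -, -⟩ | ⟨-, α, hα, he⟩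
  · rcases C.shape with ⟨-, hde⟩ | ⟨hε', -⟩
    · rw [hde] at h
      exact C.ne_one (Nat.eq_of_mul_eq_mul_right (show 0 < e by have := C.he2; omega)
        (by rw [one_mul]; exact h.symm))
    · rw [hε'] at hε; norm_num at hε
  · have h2 : 2 ∣ d := h ▸ dvd_mul_of_dvd_right (he ▸ dvd_pow_self 2 (by omega)) _
    have := C.dodd
    omega

theorem Cofactor.card_sylow_two (C : Cofactor p b d e t P M S θ) (Q : Sylow 2 G) :
    Nat.card Q = 2 ^ b := by
  haveI : Fact (Nat.Prime 2) := ⟨Nat.prime_two⟩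
  refine SmallSimple.card_sylow_eq_pow Q b (p * d) (by rw [C.card]; ring) fun h => ?_
  rcases Nat.prime_two.dvd_mul.1 h with h | h
  · exact absurd ((Nat.prime_dvd_prime_iff_eq Nat.prime_two hp.out).1 h).symm
      (by have := C.hp5; omega)
  · have := C.dodd; omega

theorem Cofactor.two_dvd (C : Cofactor p b d e t P M S θ) {Q : Sylow 2 G} {u : G}
    (hu : u ∈ (Q : Subgroup G)) (hu1 : u ≠ 1) : 2 ∣ orderOf u := by
  have h1 : orderOf u ∣ 2 ^ b := C.card_sylow_two Q ▸ Subgroup.orderOf_dvd_natCard _ hu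
  obtain ⟨j, -, hj⟩ := (Nat.dvd_prime_pow Nat.prime_two).1 h1
  rw [hj]
  refine dvd_pow_self 2 fun h0 => hu1 ?_
  rw [h0, pow_zero] at hj
  exact orderOf_eq_one_iff.1 hj

theorem Cofactor.trivial_ne (C : Cofactor p b d e t P M S θ) : θ ≠ Char.trivialChar G := fun h =>
  Finset.disjoint_left.1 S.disj C.one_mem (h ▸ C.mem)

/-- The relation of the principal `2`-block on `2`-singular elements. -/
theorem Cofactor.relation_two (C : Cofactor p b d e t P M S θ) {M₂ : Ideal AlgInt} [M₂.IsMaximal]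
    (h2M : ((2 : ℕ) : AlgInt) ∈ M₂) {u : G} (hu : 2 ∣ orderOf u) :
    (t : ℂ) * ∑ χ ∈ S.X.filter (· ∈ principalBlock M₂ G), (S.εX χ : ℂ) * χ.1 u -
      (S.ε : ℂ) * ((S.Y.filter (· ∈ principalBlock M₂ G)).card : ℂ) * θ.1 u = 0 :=
  C.sc.two_block_relation C.hpM (by have := C.hp5; omega) h2M S ⟨θ, C.mem⟩ C.ht
    (fun _ hθ' => C.sc.sum_erase_Y C.hpM S C.hdeg C.shape C.ht C.cardY hθ') C.mem hu

/-- A relation on the non-identity elements of a Sylow `2`-subgroup gives a congruence. -/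
theorem Cofactor.dvd_combination (C : Cofactor p b d e t P M S θ) (Q : Sylow 2 G)
    {s : Finset (IrrCharacter G)} (hs : s ⊆ S.X) (K : ℤ)
    (h : ∀ u ∈ (Q : Subgroup G), u ≠ 1 →
      ∑ χ ∈ s, (S.εX χ : ℂ) * χ.1 u + (K : ℂ) * θ.1 u = 0) :
    (2 ^ b : ℤ) ∣ ∑ χ ∈ s, S.εX χ * (Char.degree χ : ℤ) + K * d := by
  have hθs : θ ∉ s := fun hm => Finset.disjoint_left.1 S.disj (hs hm) C.mem
  have h1 := dvd_of_vanish (Q : Subgroup G)
    (fun χ => (if χ ∈ s then S.εX χ else 0) + (if χ = θ then K else 0)) fun u hu hu1 => by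
      rw [← h u hu hu1]
      push_cast
      simp only [add_mul, Finset.sum_add_distrib]
      congr 1
      · simp only [apply_ite (fun z : ℤ => (z : ℂ)), Int.cast_zero, ite_mul, zero_mul]
        rw [Finset.sum_ite_mem, Finset.univ_inter]
      · simp [apply_ite (fun z : ℤ => (z : ℂ)), ite_mul]
  rw [show (Nat.card (Q : Subgroup G)) = 2 ^ b from C.card_sylow_two Q] at h1
  push_cast at h1
  refine h1.trans (dvd_of_eq ?_)
  simp only [add_mul, Finset.sum_add_distrib, ite_mul, zero_mul, Finset.sum_ite_mem, Finset.univ_inter,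
    Finset.sum_ite_eq', Finset.mem_univ, if_true, C.hdeg θ C.mem]

/-- For two exceptional characters the multiplicity is even: an integral generalised character. -/
theorem Cofactor.exists_phi (C : Cofactor p b d e t P M S θ) (ht : t = 2) {M₂ : Ideal AlgInt}
    [M₂.IsMaximal] (h2M : ((2 : ℕ) : AlgInt) ∈ M₂) :
    ∃ c : ℤ, (c = 0 ∨ c = 1) ∧ (2 ^ b : ℤ) ∣
      ∑ χ ∈ S.X.filter (· ∈ principalBlock M₂ G), S.εX χ * (Char.degree χ : ℤ) + -(S.ε * c) * d := by
  haveI : Fact (Nat.Prime 2) := ⟨Nat.prime_two⟩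
  obtain ⟨Q⟩ := (inferInstance : Nonempty (Sylow 2 G))
  set Z := S.X.filter (· ∈ principalBlock M₂ G) with hZ
  obtain ⟨cnt, hcnt⟩ : ∃ cnt, (S.Y.filter (· ∈ principalBlock M₂ G)).card = cnt := ⟨_, rfl⟩
  have hle : cnt ≤ 2 := by
    rw [← hcnt, ← ht, ← C.cardY]; exact Finset.card_filter_le _ _
  have hrel : ∀ u ∈ (Q : Subgroup G), u ≠ 1 →
      2 * ∑ χ ∈ Z, (S.εX χ : ℂ) * χ.1 u - (S.ε : ℂ) * (cnt : ℂ) * θ.1 u = 0 := fun u hu hu1 => by
    have := C.relation_two h2M (C.two_dvd hu hu1)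
    rw [hcnt, ht] at this
    exact_mod_cast this
  have hne : cnt ≠ 1 := by
    intro h1
    have hdvd := dvd_of_vanish (Q : Subgroup G)
      (fun χ => (if χ ∈ Z then 2 * S.εX χ else 0) + (if χ = θ then -S.ε else 0)) fun u hu hu1 => by
        rw [← hrel u hu hu1, h1, Finset.mul_sum]
        push_cast
        simp only [add_mul, Finset.sum_add_distrib, sub_eq_add_neg]
        congr 1
        · simp only [ite_mul, zero_mul]
          rw [Finset.sum_ite_mem, Finset.univ_inter]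
          exact Finset.sum_congr rfl fun χ _ => by ring
        · simp [ite_mul]
    rw [show (Nat.card (Q : Subgroup G)) = 2 ^ b from C.card_sylow_two Q] at hdvd
    push_cast at hdvd
    simp only [add_mul, Finset.sum_add_distrib, ite_mul, zero_mul, Finset.sum_ite_mem, Finset.univ_inter,
      Finset.sum_ite_eq', Finset.mem_univ, if_true, C.hdeg θ C.mem, mul_assoc, ← Finset.mul_sum] at hdvd
    have h2 : (2 : ℤ) ∣ 2 ^ b := dvd_pow_self 2 (Nat.one_le_iff_ne_zero.1 C.b_pos)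
    have h3 := (dvd_add_right (dvd_mul_right (2 : ℤ) _)).1 (h2.trans hdvd)
    have := C.dodd
    rcases S.hε with e' | e' <;> rw [e'] at h3 <;> omega
  obtain ⟨c₀, hc₀⟩ : ∃ c₀, cnt = 2 * c₀ := ⟨cnt / 2, by omega⟩
  refine ⟨(c₀ : ℤ), ?_, ?_⟩
  · rcases (show c₀ = 0 ∨ c₀ = 1 by omega) with h | h <;> rw [h] <;> norm_num
  · refine C.dvd_combination Q (Finset.filter_subset _ _) _ fun u hu hu1 => ?_
    have h2 : (cnt : ℂ) = 2 * (c₀ : ℂ) := by exact_mod_cast hc₀
    have h1 := hrel u hu hu1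
    rw [h2] at h1
    push_cast
    linear_combination h1 / 2

variable [IsSimpleGroup G]

/-- Members of both principal blocks have degree `2 ^ i d`. -/
theorem Cofactor.degree_in (C : Cofactor p b d e t P M S θ) {k : ℕ} {σ : ℤ} (hk : Near p k σ)
    (hdk : d + 2 ^ (k - 1) = p) {M₂ : Ideal AlgInt} [M₂.IsMaximal]
    (h2M : ((2 : ℕ) : AlgInt) ∈ M₂) {χ : IrrCharacter G}
    (hχ : χ ∈ (S.X.filter (· ∈ principalBlock M₂ G)).erase (Char.trivialChar G)) :
    ∃ i, 1 ≤ i ∧ Char.degree χ = 2 ^ i * d := by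
  haveI : Fact (Nat.Prime 2) := ⟨Nat.prime_two⟩
  obtain ⟨hne, hm⟩ := Finset.mem_erase.1 hχ
  obtain ⟨hX, hb⟩ := Finset.mem_filter.1 hm
  obtain ⟨i, d', hi, -, hdd, hodd, hdvd⟩ := C.deg_X χ (Finset.mem_erase.2 ⟨hne, hX⟩)
  have hd0 : 0 < d := by have := C.hd; omega
  have hd'0 : 1 ≤ d' := Nat.pos_of_dvd_of_pos hdvd hd0
  rcases odd_part hk C.hp5 (S.hεX χ hX) hdk hd'0 hodd (Nat.le_of_dvd hd0 hdvd)
    (by rw [← hdd]; exact S.X_deg' hX) with h | h
  · exact absurd (Blocks.eq_trivial_of_prime_pow_degree C.nc h2M hb (k := i)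
      (by rw [hdd, h, mul_one])) hne
  · exact ⟨i, hi, by rw [hdd, h]⟩

/-- The bound from the generalised character. -/
theorem Cofactor.le_phi (C : Cofactor p b d e t P M S θ) (ht : t = 2) {k : ℕ} {σ : ℤ}
    (hk : Near p k σ) (hdk : d + 2 ^ (k - 1) = p) {M₂ : Ideal AlgInt} [M₂.IsMaximal]
    (h2M : ((2 : ℕ) : AlgInt) ∈ M₂) :
    2 ^ b ≤ 1 + d +
      ∑ χ ∈ (S.X.filter (· ∈ principalBlock M₂ G)).erase (Char.trivialChar G), Char.degree χ := by
  obtain ⟨c, hc, hdvd⟩ := C.exists_phi ht h2M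
  have hT : Char.trivialChar G ∈ S.X.filter (· ∈ principalBlock M₂ G) :=
    Finset.mem_filter.2 ⟨C.one_mem, Blocks.sameBlock_refl (fun _ : G => (1 : ℂ))⟩
  rw [← Finset.add_sum_erase _ _ hT, C.one_sign, trivial_degree] at hdvd
  set Z' := (S.X.filter (· ∈ principalBlock M₂ G)).erase (Char.trivialChar G) with hZ'
  obtain ⟨Φ, hΦ⟩ : ∃ Φ, (1 : ℤ) * ((1 : ℕ) : ℤ) + ∑ χ ∈ Z', S.εX χ * (Char.degree χ : ℤ) +
    -(S.ε * c) * d = Φ := ⟨_, rfl⟩
  rw [hΦ] at hdvd
  have hne : Φ ≠ 0 := by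
    intro h0
    have hd : (d : ℤ) ∣ Φ - 1 := by
      rw [← hΦ]
      refine Dvd.intro (-(S.ε * c) + ∑ χ ∈ Z', S.εX χ * ((Char.degree χ / d : ℕ) : ℤ)) ?_
      rw [mul_add, Finset.mul_sum]
      rw [Finset.sum_congr (g := fun χ => S.εX χ * (Char.degree χ : ℤ)) rfl fun χ hχ => by
        obtain ⟨i, -, hi⟩ := C.degree_in hk hdk h2M hχ
        rw [hi, Nat.mul_div_cancel _ (by have := C.hd; omega)]
        push_cast
        ring]
      push_cast
      ring
    rw [h0, zero_sub, dvd_neg] at hd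
    have h1 : d ∣ 1 := by exact_mod_cast hd
    have := Nat.le_of_dvd one_pos h1
    have := C.hd
    omega
  have h1 : (2 ^ b : ℤ) ≤ |Φ| := Int.le_of_dvd (abs_pos.2 hne) ((dvd_abs _ _).2 hdvd)
  have h2 : |Φ| ≤ 1 + ∑ χ ∈ Z', (Char.degree χ : ℤ) + d := by
    rw [← hΦ]
    refine (abs_add_le _ _).trans (add_le_add ((abs_add_le _ _).trans (add_le_add (by simp) ?_)) ?_)
    · refine (Finset.abs_sum_le_sum_abs _ _).trans (Finset.sum_le_sum fun χ hχ => ?_)
      rcases S.hεX χ (Finset.filter_subset _ _ (Finset.erase_subset _ _ hχ)) with e' | e' <;>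
        rw [e'] <;> simp
    · rcases hc with rfl | rfl <;> rcases S.hε with e' | e' <;> rw [e'] <;> simp
  have h3 : ((2 ^ b : ℕ) : ℤ) ≤ ((1 + d + ∑ χ ∈ Z', Char.degree χ : ℕ) : ℤ) := by
    push_cast
    linarith
  exact_mod_cast h3

/-- The general bound. -/
theorem Cofactor.two_part_le (C : Cofactor p b d e t P M S θ) (ht : t = 2) {k : ℕ} {σ : ℤ}
    (hk : Near p k σ) (hdk : d + 2 ^ (k - 1) = p) :
    2 ^ b ≤ e * p * d + 2 * (1 + d) := by
  obtain ⟨M₂, hM2⟩ := CharInt.exists_isPModular_of_prime Nat.prime_two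
  haveI := hM2.2.1
  have h1 := C.le_phi ht hk hdk hM2.2.2
  set Z' := (S.X.filter (· ∈ principalBlock M₂ G)).erase (Char.trivialChar G) with hZ'
  have hcard : Z'.card ≤ e := by
    rw [← S.cardX]
    exact Finset.card_le_card ((Finset.erase_subset _ _).trans (Finset.filter_subset _ _))
  have h2 : (∑ χ ∈ Z', Char.degree χ) ^ 2 ≤ e * (p * (d * 2 ^ b)) := by
    refine le_trans (sq_sum_le_card_mul_sum_sq (s := Z') (f := fun χ => Char.degree χ)) ?_
    refine Nat.mul_le_mul hcard ?_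
    rw [← C.card, ← Char.sum_degree_sq (G := G)]
    exact Finset.sum_le_sum_of_subset (Finset.subset_univ _)
  generalize ∑ χ ∈ Z', Char.degree χ = s at h1 h2
  generalize 2 ^ b = Q at h1 h2 ⊢
  by_contra hlt
  push Not at hlt
  nlinarith [Nat.pow_le_pow_left (show Q - (1 + d) ≤ s by omega) 2,
    Nat.sub_add_cancel (show 1 + d ≤ Q by omega)]

/-- The Mersenne case. -/
theorem Cofactor.mersenne (C : Cofactor p b d e t P M S θ) (hε : S.ε = 1) (ht : t = 2) {k : ℕ}
    (hk : p + 1 = 2 ^ k) : Nat.card (Sylow p G) = p + 1 ∧ 2 * Nat.card G = p * (p ^ 2 - 1) := by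
  obtain ⟨-, hde⟩ := C.shape.resolve_right fun h => by rw [h.1] at hε; norm_num at hε
  have hp5 := C.hp5
  have hte := C.ht
  rw [ht, ← hde] at hte
  have hN : Near p k 1 := Or.inl ⟨rfl, hk⟩
  have hk0 : 1 ≤ k := by
    by_contra h
    rw [show k = 0 by omega, pow_zero] at hk
    omega
  have hk1 : 2 ^ (k - 1) * 2 = 2 ^ k := by rw [← pow_succ, Nat.sub_add_cancel hk0]
  have hdk : d + 2 ^ (k - 1) = p := by omega
  have hn : Nat.card (Sylow p G) = 2 ^ b := by
    have := C.sylow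
    rw [← hde, mul_comm d] at this
    exact (Nat.eq_of_mul_eq_mul_right (by have := C.hd; omega) this).symm
  have hmod : (2 : ℤ) ^ b ≡ 1 [ZMOD p] := by
    have h1 : (2 ^ b) ≡ 1 [MOD p] := by
      rw [Nat.ModEq, ← hn, C.mod, Nat.one_mod_eq_one.2 (by omega)]
    exact_mod_cast Int.natCast_modEq_iff.2 h1
  obtain ⟨j, hj⟩ := (log_residue hN hp5 (Or.inl rfl) hmod).1
  have hb := C.b_pos
  have hj0 : j ≠ 0 := by rintro rfl; simp at hj; omega
  have hb2 : b = k := by
    by_contra hne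
    have hj2 : 2 ≤ j := by
      by_contra h
      exact hne (by rw [hj, show j = 1 by omega, mul_one])
    have hle := C.two_part_le ht hN hdk
    have hpd : p = 2 * d + 1 := by omega
    rw [← hde, hpd] at hle
    rcases Nat.lt_or_ge j 3 with hj3 | hj3
    · -- `b = 2 k`
      have hjj : j = 2 := by omega
      obtain ⟨M₂, hM2⟩ := CharInt.exists_isPModular_of_prime Nat.prime_two
      haveI := hM2.2.1
      have h1 := C.le_phi ht hN hdk hM2.2.2
      set Z' := (S.X.filter (· ∈ principalBlock M₂ G)).erase (Char.trivialChar G) with hZ'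
      have hdeg : ∀ χ ∈ Z', Char.degree χ ≤ 2 * d := by
        intro χ hχ
        obtain ⟨i, hi, hd'⟩ := C.degree_in hN hdk hM2.2.2 hχ
        have hX : χ ∈ S.X := Finset.filter_subset _ _ (Finset.erase_subset _ _ hχ)
        have hm := S.X_deg' hX
        rw [hd'] at hm
        push_cast at hm
        have h2d : (2 : ℤ) * d ≡ -1 [ZMOD p] := by
          rw [Int.modEq_iff_dvd]
          exact ⟨-1, by rw [hpd]; push_cast; ring⟩
        have hi' : (2 : ℤ) ^ (i - 1) ≡ -(S.εX χ) [ZMOD p] := by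
          have h3 := (h2d.mul_left ((2 : ℤ) ^ (i - 1)))
          rw [← mul_assoc, ← pow_succ, Nat.sub_add_cancel hi] at h3
          have h4 := (h3.symm.trans hm).neg
          rw [mul_neg, mul_one, neg_neg] at h4
          exact h4
        obtain ⟨l, hl⟩ := (log_residue hN hp5 (by rcases S.hεX χ hX with e' | e' <;> simp [e']) hi').1
        rcases Nat.eq_zero_or_pos l with rfl | hl0
        · rw [hd', show i = 1 by simp at hl; omega, pow_one]
        · exfalso
          have hsq : Char.degree χ ^ 2 ≤ Nat.card G := by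
            rw [← Char.sum_degree_sq (G := G)]
            exact Finset.single_le_sum (f := fun ψ : IrrCharacter G => Char.degree ψ ^ 2)
              (fun _ _ => Nat.zero_le _) (Finset.mem_univ χ)
          rw [C.card, hd', hj, hjj, hpd] at hsq
          have hki : k + 1 ≤ i := by
            have : k * 1 ≤ k * l := Nat.mul_le_mul_left k hl0
            omega
          have hpw : 2 ^ k * 2 ≤ 2 ^ i := by rw [← pow_succ]; exact Nat.pow_le_pow_right two_pos hki
          rw [pow_mul, mul_pow] at hsq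
          have h5 : (2 ^ k * 2) ^ 2 * d ^ 2 ≤ (2 * d + 1) * (d * (2 ^ k) ^ 2) :=
            le_trans (Nat.mul_le_mul_right _ (Nat.pow_le_pow_left hpw 2)) hsq
          have h6 : 0 < d * (2 ^ k) ^ 2 := Nat.mul_pos (by have := C.hd; omega) (by positivity)
          have h7 : 4 * d * (d * (2 ^ k) ^ 2) ≤ (2 * d + 1) * (d * (2 ^ k) ^ 2) := by
            refine le_trans (le_of_eq ?_) h5
            ring
          have := Nat.le_of_mul_le_mul_right h7 h6
          have := C.hd
          omega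
      have hcard : Z'.card ≤ d := by
        rw [hde, ← S.cardX]
        exact Finset.card_le_card ((Finset.erase_subset _ _).trans (Finset.filter_subset _ _))
      have h2 : ∑ χ ∈ Z', Char.degree χ ≤ d * (2 * d) :=
        le_trans (Finset.sum_le_card_nsmul _ _ _ hdeg) (by
          rw [smul_eq_mul]; exact Nat.mul_le_mul_right _ hcard)
      rw [hj, hjj, pow_mul] at h1
      have h4 : 2 ^ k = 2 * d + 2 := by omega
      rw [h4] at h1
      nlinarith
    · have h3k : 3 * k ≤ b := by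
        rw [hj]
        calc 3 * k = k * 3 := mul_comm _ _
          _ ≤ k * j := Nat.mul_le_mul_left k hj3
      have h1 : (2 ^ k) ^ 3 ≤ 2 ^ b := by
        rw [← pow_mul, mul_comm]; exact Nat.pow_le_pow_right two_pos h3k
      rw [show 2 ^ k = 2 * d + 2 by omega] at h1
      nlinarith
  refine ⟨by rw [hn, hb2, ← hk], ?_⟩
  have h1 : p ^ 2 - 1 = (p + 1) * (p - 1) := by rw [← Nat.sq_sub_sq, one_pow]
  rw [C.card, hb2, ← hk, h1, show p - 1 = 2 * d by omega]
  ring

/-- The shape in the Fermat case. -/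
theorem Cofactor.fermat_prime (C : Cofactor p b d e t P M S θ) (hε : S.ε = -1) {α : ℕ} (hα : 2 ≤ α)
    (he : e = 2 ^ α) : p = 2 * e + 1 ∧ t = 2 := by
  obtain ⟨-, hde⟩ := C.shape.resolve_left fun h => by rw [h.1] at hε; norm_num at hε
  have hp5 := C.hp5
  have ht2 := C.ht2
  have hte := C.ht
  have h4e : 4 ∣ e := he ▸ pow_dvd_pow 2 hα
  obtain ⟨e', he'⟩ := h4e
  have h2e : 2 * e ≤ t * e := Nat.mul_le_mul_right e ht2
  have he0 := C.he2
  have hd4 : d % 4 = 1 := by
    have h1 : (t - 1) * e + e = t * e := by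
      rw [← Nat.succ_mul]; congr 1; omega
    have h2 : d = (t - 1) * e + 1 := by omega
    rw [h2, he', show (t - 1) * (4 * e') = 4 * ((t - 1) * e') by ring]
    omega
  have hrel := S.degree_relation C.mem
  rw [C.hdeg θ C.mem, hε, ← Finset.add_sum_erase _ _ C.one_mem, C.one_sign, trivial_degree] at hrel
  obtain ⟨χ, hχ, hχ4⟩ : ∃ χ ∈ S.X.erase (Char.trivialChar G), ¬ 4 ∣ Char.degree χ := by
    by_contra hcon
    push Not at hcon
    have h4 : (4 : ℤ) ∣ ∑ χ ∈ S.X.erase (Char.trivialChar G), S.εX χ * (Char.degree χ : ℤ) :=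
      Finset.dvd_sum fun χ hχ => Dvd.dvd.mul_left (by exact_mod_cast hcon χ hχ) _
    omega
  obtain ⟨i, d', hi, -, hdd, hodd, hdvd⟩ := C.deg_X χ hχ
  have hi1 : i = 1 := by
    by_contra hne
    exact hχ4 (hdd ▸ dvd_mul_of_dvd_left (pow_dvd_pow 2 (show 2 ≤ i by omega)) d')
  rw [hi1, pow_one] at hdd
  have hX : χ ∈ S.X := (Finset.mem_erase.1 hχ).2
  obtain ⟨k, hk⟩ := Int.modEq_iff_dvd.1 (S.X_deg' hX).symm
  rw [hdd] at hk
  push_cast at hk
  obtain ⟨f, hf⟩ := hdvd
  have hf1 : f = 1 := by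
    by_contra hne
    have hf0 : f ≠ 0 := by rintro rfl; rw [mul_zero] at hf; have := C.hd; omega
    have hf2 : d' * 2 ≤ d := hf ▸ Nat.mul_le_mul_left d' (show 2 ≤ f by omega)
    rcases S.hεX χ hX with e'' | e'' <;> rw [e''] at hk <;>
      obtain rfl := eq_zero_of_bound hk (by omega) (by omega) <;> omega
  rw [hf1, mul_one] at hf
  subst hf
  have hk1 : k = 1 := by
    rcases S.hεX χ hX with e'' | e'' <;> rw [e''] at hk <;>
      exact eq_one_of_bound hk (by omega) (by omega)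
  subst hk1
  rcases S.hεX χ hX with e'' | e'' <;> rw [e''] at hk
  · have hpe : p = 2 * e + 1 := by omega
    refine ⟨hpe, Nat.eq_of_mul_eq_mul_right (show 0 < e by omega) ?_⟩
    omega
  · omega

/-- The Fermat case. -/
theorem Cofactor.fermat (C : Cofactor p b d e t P M S θ) (hε : S.ε = -1) {α : ℕ} (hα : 2 ≤ α)
    (he : e = 2 ^ α) : p = 2 ^ (α + 1) + 1 ∧ Nat.card (Sylow p G) = p + 1 ∧
      2 * Nat.card G = p * (p ^ 2 - 1) := by
  obtain ⟨-, hde⟩ := C.shape.resolve_left fun h => by rw [h.1] at hε; norm_num at hε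
  obtain ⟨hpe, ht⟩ := C.fermat_prime hε hα he
  have hp5 := C.hp5
  have he2 := C.he2
  have hpk : p = 2 ^ (α + 1) + 1 := by rw [pow_succ', ← he]; exact hpe
  have hN : Near p (α + 1) (-1) := Or.inr ⟨rfl, hpk⟩
  have hdk : d + 2 ^ (α + 1 - 1) = p := by rw [Nat.add_sub_cancel, ← he]; exact hde
  have hsyl := C.sylow
  have hbα : α ≤ b := by
    have h1 : 2 ^ α ∣ d * 2 ^ b := by rw [hsyl, he]; exact dvd_mul_left _ _
    have hc : Nat.Coprime (2 ^ α) d :=
      Nat.Coprime.pow_left α ((Nat.prime_two.coprime_iff_not_dvd).2 (by have := C.dodd; omega))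
    exact (Nat.pow_dvd_pow_iff_le_right (by norm_num)).1 (hc.dvd_of_dvd_mul_left h1)
  have hn : Nat.card (Sylow p G) = d * 2 ^ (b - α) := by
    refine Nat.eq_of_mul_eq_mul_right (show 0 < e by omega) ?_
    rw [← hsyl, mul_assoc, he, ← pow_add, Nat.sub_add_cancel hbα]
  have hb1 : α + 1 ≤ b := by
    by_contra h
    have := C.mod
    rw [hn, show b - α = 0 by omega, pow_zero, mul_one, Nat.mod_eq_of_lt (by omega)] at this
    have := C.hd
    omega
  have hj : (2 : ℤ) ^ (b - α - 1) ≡ 1 [ZMOD p] := by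
    have h1 : (d * 2 ^ (b - α)) ≡ 1 [MOD p] := by
      rw [Nat.ModEq, ← hn, C.mod, Nat.one_mod_eq_one.2 (by omega)]
    have h2 : ((d * 2 ^ (b - α) : ℕ) : ℤ) ≡ ((1 : ℕ) : ℤ) [ZMOD p] := Int.natCast_modEq_iff.2 h1
    push_cast at h2
    have h2d : (2 : ℤ) * d ≡ 1 [ZMOD p] := by
      rw [Int.modEq_iff_dvd]
      exact ⟨-1, by
        rw [show (p : ℤ) = 2 * d - 1 by omega]
        ring⟩
    have h3 := (h2d.mul_right ((2 : ℤ) ^ (b - α - 1))).symm
    rw [one_mul] at h3
    refine h3.trans ?_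
    rw [show (2 : ℤ) * d * 2 ^ (b - α - 1) = d * (2 ^ (b - α - 1) * 2) by ring, ← pow_succ,
      show b - α - 1 + 1 = b - α by omega]
    exact h2
  obtain ⟨⟨l, hl⟩, hsign⟩ := log_residue hN hp5 (Or.inl rfl) hj
  have hb : b = α + 1 := by
    by_contra hne
    have hl0 : l ≠ 0 := by rintro rfl; rw [mul_zero] at hl; omega
    have hl1 : l ≠ 1 := by
      rintro rfl
      rw [hl, mul_one, Nat.div_self (by omega)] at hsign
      norm_num at hsign
    have h3 : 3 * (α + 1) ≤ b := by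
      have : (α + 1) * 2 ≤ (α + 1) * l := Nat.mul_le_mul_left _ (by omega)
      omega
    have h1 : (2 ^ (α + 1)) ^ 3 ≤ 2 ^ b := by
      rw [← pow_mul, mul_comm]; exact Nat.pow_le_pow_right two_pos h3
    rw [show 2 ^ (α + 1) = e * 2 by rw [pow_succ, ← he]] at h1
    have hle := C.two_part_le ht hN hdk
    rw [hpe, show d = e + 1 by omega] at hle
    have h4 : e * e * 2 ≤ e * e * e := Nat.mul_le_mul_left _ he2
    have h5 : 2 * 2 ≤ e * e := Nat.mul_le_mul he2 he2
    have h6 : 2 * e ≤ e * e := Nat.mul_le_mul_right e he2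
    nlinarith
  refine ⟨hpk, ?_, ?_⟩
  · rw [hn, hb, show α + 1 - α = 1 by omega]
    omega
  · have h1 : p ^ 2 - 1 = (p + 1) * (p - 1) := by rw [← Nat.sq_sub_sq, one_pow]
    rw [C.card, hb, pow_succ', ← he, h1, show p + 1 = 2 * d by omega, show p - 1 = 2 * e by omega]
    ring

/-- The case `e = 2`. -/
theorem Cofactor.binary (C : Cofactor p b d e t P M S θ) (hε : S.ε = -1) (he : e = 2) :
    p = 2 ^ b + 1 ∧ d + 2 = p ∧ ∀ u : G, 2 ∣ orderOf u →
      θ.1 u = -1 ∧ ∀ χ ∈ S.X.erase (Char.trivialChar G), χ.1 u = 0 := by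
  haveI : Fact (Nat.Prime 2) := ⟨Nat.prime_two⟩
  obtain ⟨-, hde⟩ := C.shape.resolve_left fun h => by rw [h.1] at hε; norm_num at hε
  rw [he] at hde
  have hp5 := C.hp5
  obtain ⟨χ, hχ⟩ : ∃ χ, S.X.erase (Char.trivialChar G) = {χ} :=
    Finset.card_eq_one.1 (by rw [Finset.card_erase_of_mem C.one_mem, S.cardX, he])
  have hmem : χ ∈ S.X.erase (Char.trivialChar G) := hχ ▸ Finset.mem_singleton_self χ
  have hrel := S.degree_relation C.mem
  rw [C.hdeg θ C.mem, hε, ← Finset.add_sum_erase _ _ C.one_mem, C.one_sign, trivial_degree, hχ,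
    Finset.sum_singleton] at hrel
  have hX : χ ∈ S.X := (Finset.mem_erase.1 hmem).2
  have hχd : Char.degree χ = p - 1 ∧ S.εX χ = -1 := by
    rcases S.hεX χ hX with e' | e' <;> rw [e'] at hrel
    · omega
    · exact ⟨by omega, e'⟩
  obtain ⟨i, d', hi, hib, hdd, hodd, hdvd⟩ := C.deg_X χ hmem
  have hd'1 : d' = 1 := by
    have h1 : d' ∣ p - 1 := ⟨2 ^ i, by rw [← hχd.1, hdd, mul_comm]⟩
    have h2 := Nat.dvd_sub h1 hdvd
    rw [show p - 1 - d = 1 by omega] at h2
    exact Nat.dvd_one.1 h2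
  rw [hd'1, mul_one] at hdd
  obtain ⟨M₂, hM2⟩ := CharInt.exists_isPModular_of_prime Nat.prime_two
  haveI := hM2.2.1
  have hout : χ ∉ principalBlock M₂ G := fun hm =>
    (Finset.mem_erase.1 hmem).1 (Blocks.eq_trivial_of_prime_pow_degree C.nc hM2.2.2 hm hdd)
  have hZ : S.X.filter (· ∈ principalBlock M₂ G) = {Char.trivialChar G} := by
    ext ψ
    simp only [Finset.mem_filter, Finset.mem_singleton]
    refine ⟨fun h => ?_, fun h => h ▸ ⟨C.one_mem, Blocks.sameBlock_refl (fun _ : G => (1 : ℂ))⟩⟩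
    by_contra hne
    have h' : ψ ∈ S.X.erase (Char.trivialChar G) := Finset.mem_erase.2 ⟨hne, h.1⟩
    rw [hχ, Finset.mem_singleton] at h'
    exact hout (h' ▸ h.2)
  obtain ⟨cnt, hcnt⟩ : ∃ cnt, (S.Y.filter (· ∈ principalBlock M₂ G)).card = cnt := ⟨_, rfl⟩
  have hcl : cnt ≤ t := by rw [← hcnt, ← C.cardY]; exact Finset.card_filter_le _ _
  have key : ∀ u : G, 2 ∣ orderOf u → (t : ℂ) + (cnt : ℂ) * θ.1 u = 0 := fun u hu => by
    have := C.relation_two hM2.2.2 hu
    rw [hZ, Finset.sum_singleton, C.one_sign, Char.trivialChar_apply, hcnt, hε] at this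
    push_cast at this
    linear_combination this
  obtain ⟨Q⟩ := (inferInstance : Nonempty (Sylow 2 G))
  have hQ : Nat.card Q = 2 ^ b := C.card_sylow_two Q
  have hb := C.b_pos
  obtain ⟨u₀, hu₀, hu₀1⟩ : ∃ u ∈ (Q : Subgroup G), u ≠ 1 := by
    haveI : Nontrivial (Q : Subgroup G) := Finite.one_lt_card_iff_nontrivial.1 (by
      rw [show Nat.card (Q : Subgroup G) = 2 ^ b from hQ]
      exact Nat.one_lt_two_pow (by omega))
    obtain ⟨u, hu⟩ := exists_ne (1 : (Q : Subgroup G))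
    exact ⟨u, u.2, fun h => hu (Subtype.ext h)⟩
  have ht2 := C.ht2
  have hc0 : cnt ≠ 0 := by
    intro h0
    have := key u₀ (C.two_dvd hu₀ hu₀1)
    rw [h0, Nat.cast_zero, zero_mul, add_zero, Nat.cast_eq_zero] at this
    omega
  have hcC : (cnt : ℂ) ≠ 0 := Nat.cast_ne_zero.2 hc0
  obtain ⟨z, hz⟩ : ∃ z : ℤ, θ.1 u₀ = z := by
    have h1 : θ.1 u₀ = algebraMap ℚ ℂ (-(t : ℚ) / cnt) := by
      rw [eq_ratCast]
      push_cast
      field_simp
      linear_combination key u₀ (C.two_dvd hu₀ hu₀1)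
    have hint := CharInt.isIntegral_char (Char.irr_isCharacter θ) u₀
    rw [h1, isIntegral_algebraMap_iff (algebraMap ℚ ℂ).injective] at hint
    obtain ⟨z, hz⟩ := IsIntegrallyClosed.isIntegral_iff.1 hint
    exact ⟨z, by rw [h1, ← hz]; simp⟩
  have hall : ∀ u : G, 2 ∣ orderOf u → θ.1 u = z := fun u hu => by
    refine mul_left_cancel₀ hcC ?_
    rw [← hz]
    linear_combination key u hu - key u₀ (C.two_dvd hu₀ hu₀1)
  have hzt : (t : ℤ) + cnt * z = 0 := by
    have := key u₀ (C.two_dvd hu₀ hu₀1)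
    rw [hz] at this
    exact_mod_cast this
  have hz0 : z ≤ -1 := by
    by_contra h
    have : (0 : ℤ) ≤ cnt * z := mul_nonneg (by positivity) (by omega)
    omega
  have hzb : -(t : ℤ) ≤ z := by
    have h : (cnt : ℤ) * z ≤ 1 * z :=
      mul_le_mul_of_nonpos_right (by exact_mod_cast (Nat.pos_of_ne_zero hc0)) (by omega)
    omega
  have hdiv : (2 ^ b : ℤ) ∣ (d : ℤ) - z := by
    obtain ⟨n, hn⟩ := Char.IsCharacter.exists_nat_classInner
      (Char.IsCharacter.restrict (Char.irr_isCharacter θ) (Q : Subgroup G))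
      (Char.irr_isCharacter (Char.trivialChar (Q : Subgroup G)))
    simp only [classInner, Char.trivialChar_apply, map_one, mul_one] at hn
    rw [← Finset.add_sum_erase _ _ (Finset.mem_univ (1 : (Q : Subgroup G))),
      Finset.sum_congr rfl fun (w : (Q : Subgroup G)) hw =>
        hall w (C.two_dvd w.2 fun h => (Finset.mem_erase.1 hw).1 (Subtype.ext h)),
      Finset.sum_const, Finset.card_erase_of_mem (Finset.mem_univ _), Finset.card_univ,
      ← Nat.card_eq_fintype_card, show Nat.card (Q : Subgroup G) = 2 ^ b from hQ,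
      Subgroup.coe_one, Char.apply_one_eq_degree, C.hdeg θ C.mem, nsmul_eq_mul,
      Nat.cast_sub Nat.one_le_two_pow] at hn
    push_cast at hn
    field_simp at hn
    refine ⟨(n : ℤ) - z, ?_⟩
    have : (((d : ℤ) - z : ℤ) : ℂ) = (((2 ^ b : ℤ) * ((n : ℤ) - z) : ℤ) : ℂ) := by
      push_cast
      linear_combination hn
    exact_mod_cast this
  have hte := C.ht
  rw [he] at hte
  have hib' : 2 ^ i ≤ 2 ^ b := Nat.pow_le_pow_right two_pos hib
  obtain ⟨f, hf⟩ := hdiv
  obtain ⟨Bp, hBp⟩ : ∃ B : ℕ, B = 2 ^ b := ⟨_, rfl⟩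
  rw [show ((2 : ℤ) ^ b) = (Bp : ℤ) by rw [hBp]; push_cast; rfl] at hf
  rw [← hBp] at hib'
  have hd0 : (0 : ℤ) < d := by have := C.hd; omega
  have hf1 : f = 1 := by
    rcases lt_trichotomy f 1 with h | h | h
    · have : (Bp : ℤ) * f ≤ 0 := mul_nonpos_of_nonneg_of_nonpos (by positivity) (by omega)
      omega
    · exact h
    · have : (Bp : ℤ) * 2 ≤ Bp * f := mul_le_mul_of_nonneg_left (by omega) (by positivity)
      omega
  subst hf1
  rw [mul_one] at hf
  have hib2 : i = b := by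
    by_contra hne
    have : 2 ^ i * 2 ≤ 2 ^ b := by
      rw [← pow_succ]; exact Nat.pow_le_pow_right two_pos (by omega)
    omega
  subst hib2
  have hz1 : z = -1 := by omega
  refine ⟨by omega, hde, fun u hu => ⟨by rw [hall u hu, hz1]; norm_num, fun ψ hψ => ?_⟩⟩
  rw [hχ, Finset.mem_singleton] at hψ
  subst hψ
  have hureg : IsPRegular p u := fun hd => by
    rw [C.sc.orderOf_eq hd] at hu
    have := (Nat.prime_dvd_prime_iff_eq Nat.prime_two hp.out).1 hu
    omega
  have h1 := S.relation θ C.mem u hureg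
  rw [← Finset.add_sum_erase _ _ C.one_mem, C.one_sign, hχ, Finset.sum_singleton, hχd.2, hε,
    hall u hu, hz1, Char.trivialChar_apply] at h1
  push_cast at h1
  linear_combination h1

end Cfsg.Agent.DefectOne.SmallCofactor
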