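import Cfsg.Agent.Lib.DefectOne.SmallCofactor.Basic
import Cfsg.Agent.Lib.CharInt.Burnside
import Cfsg.Agent.Lib.SmallSimple.Criteria

/-!
# The configuration of a simple group of order `p q^b g₀` with `g₀ < p - 1`

There is an exceptional character of degree `g₀`, and `q = 2`.
-/

set_option autoImplicit false
set_option linter.style.haveILetI false
set_option linter.unusedSectionVars false

namespace Cfsg.Agent.DefectOne.SmallCofactor

open Cfsg Cfsg.Agent
open scoped ComplexConjugate Classical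

universe u

variable {G : Type u} [Group G] [Fintype G]

/-- The configuration forced by a small cofactor. -/
structure Cofactor (p b d e t : ℕ) [Fact p.Prime] (P : Sylow p G) (M : Ideal AlgInt) [M.IsMaximal]
    (S : PrimeShape P M e) (θ : IrrCharacter G) : Prop where
  hpM : (p : AlgInt) ∈ M
  sc : SelfCent P
  nc : ∃ a b : G, a * b ≠ b * a
  card : Nat.card G = p * (d * 2 ^ b)
  sylow : d * 2 ^ b = Nat.card (Sylow p G) * e
  mod : Nat.card (Sylow p G) % p = 1
  ne_one : Nat.card (Sylow p G) ≠ 1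
  hd : 2 ≤ d
  hp5 : 5 ≤ p
  dodd : d % 2 = 1
  hdeg : ∀ θ' ∈ S.Y, Char.degree θ' = d
  shape : (S.ε = 1 ∧ d = e) ∨ (S.ε = -1 ∧ d + e = p)
  ht : t * e = p - 1
  cardY : S.Y.card = t
  ht2 : 2 ≤ t
  he2 : 2 ≤ e
  mem : θ ∈ S.Y
  one_mem : Char.trivialChar G ∈ S.X
  one_sign : S.εX (Char.trivialChar G) = 1
  deg_X : ∀ χ ∈ S.X.erase (Char.trivialChar G),
    ∃ i d' : ℕ, 1 ≤ i ∧ i ≤ b ∧ Char.degree χ = 2 ^ i * d' ∧ d' % 2 = 1 ∧ d' ∣ d
  kind : (S.ε = 1 ∧ t = 2 ∧ ∃ c, p + 1 = 2 ^ c) ∨ (S.ε = -1 ∧ ∃ α, 1 ≤ α ∧ e = 2 ^ α)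

theorem trivial_degree : Char.degree (Char.trivialChar G) = 1 := by
  have := Char.apply_one_eq_degree (Char.trivialChar G)
  rw [Char.trivialChar_apply] at this
  exact_mod_cast this.symm

variable [IsSimpleGroup G]

theorem degree_one_eq_trivial (hnc : ∃ a b : G, a * b ≠ b * a) (χ : IrrCharacter G)
    (h : Char.degree χ = 1) : χ = Char.trivialChar G :=
  Blocks.eq_trivial_of_degree_one hnc χ (by rw [Char.apply_one_eq_degree, h, Nat.cast_one])

theorem faithful (hnc : ∃ a b : G, a * b ≠ b * a) {χ : IrrCharacter G}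
    (hχ : χ ≠ Char.trivialChar G) : ∀ g : G, χ.1 g = χ.1 1 → g = 1 := by
  intro g hg
  rcases (CharInt.charKernel_normal (Char.irr_isCharacter χ)).eq_bot_or_eq_top with h | h
  · have hm : g ∈ CharInt.charKernel (Char.irr_isCharacter χ) :=
      (CharInt.mem_charKernel (Char.irr_isCharacter χ)).2 hg
    rwa [h, Subgroup.mem_bot] at hm
  · exfalso
    have hall : ∀ g : G, χ.1 g = χ.1 1 := fun g =>
      (CharInt.mem_charKernel (Char.irr_isCharacter χ)).1 (h ▸ Subgroup.mem_top g)
    have h2 := Char.sum_apply_eq_zero hχ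
    rw [Finset.sum_congr rfl fun g _ => hall g, Finset.sum_const, nsmul_eq_mul,
      Finset.card_univ, Char.apply_one_eq_degree] at h2
    rcases mul_eq_zero.1 h2 with h3 | h3
    · exact Fintype.card_ne_zero (Nat.cast_eq_zero.1 h3)
    · exact (Char.degree_pos χ).ne' (Nat.cast_eq_zero.1 h3)

theorem eq_zero_of_bound {p k x : ℤ} (hk : x = p * k) (h1 : -p < x) (h2 : x < p) : k = 0 := by
  rcases lt_trichotomy k 0 with h | h | h
  · nlinarith
  · exact h
  · nlinarith

theorem eq_one_of_bound {p k x : ℤ} (hk : x = p * k) (h1 : 0 < x) (h2 : x < 2 * p) : k = 1 := by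
  rcases lt_trichotomy k 1 with h | h | h
  · have : k ≤ 0 := by omega
    nlinarith
  · exact h
  · have : 2 ≤ k := by omega
    nlinarith

set_option maxHeartbeats 1000000 in
/-- Existence of the configuration. -/
theorem exists_cofactor (hnc : ∃ a b : G, a * b ≠ b * a) {p q b g₀ : ℕ} [hp' : Fact p.Prime]
    (hq : q.Prime) (hpq : p ≠ q) (hqg : ¬ q ∣ g₀) (hcard : Nat.card G = p * q ^ b * g₀)
    (hg : g₀ < p - 1) :
    q = 2 ∧ ∃ (P : Sylow p G) (M : Ideal AlgInt) (_ : M.IsMaximal) (e t : ℕ)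
      (S : PrimeShape P M e) (θ : IrrCharacter G), Cofactor p b g₀ e t P M S θ := by
  have hp : p.Prime := hp'.out
  have hg1 : g₀ ≠ 0 := fun h => by rw [h, mul_zero] at hcard; exact Nat.card_pos.ne' hcard
  have hpg : ¬ p ∣ g₀ := fun h => by
    have := Nat.le_of_dvd (Nat.pos_of_ne_zero hg1) h
    omega
  obtain ⟨P⟩ := (inferInstance : Nonempty (Sylow p G))
  have hndvd : ¬ p ∣ q ^ b * g₀ := fun h => by
    rcases hp.dvd_mul.1 h with h | h
    · exact hpq ((Nat.prime_dvd_prime_iff_eq hp hq).1 (hp.dvd_of_dvd_pow h))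
    · exact hpg h
  have hP : Nat.card P = p := by
    have := SmallSimple.card_sylow_eq_pow P 1 (q ^ b * g₀) (by rw [hcard, pow_one, mul_assoc]) hndvd
    rwa [pow_one] at this
  obtain ⟨M, hM⟩ := CharInt.exists_isPModular_of_prime hp
  haveI := hM.2.1
  obtain ⟨e, he⟩ : ∃ e, (Subgroup.centralizer ((P : Subgroup G) : Set G)).relIndex
      (Subgroup.normalizer ((P : Subgroup G) : Set G)) = e := ⟨_, rfl⟩
  obtain ⟨S⟩ := primeShape (P := P) (M := M) hM.2.2 hP he
  have hep : e ≤ p - 1 := Nat.le_of_dvd (by omega) S.m_dvd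
  have he0 : 0 < e := Nat.pos_of_ne_zero fun h0 => by
    subst h0
    have := zero_dvd_iff.1 S.m_dvd
    omega
  set T := Char.trivialChar G with hT
  have hT1 : Char.degree T = 1 := trivial_degree
  have hlin := degree_one_eq_trivial (G := G) hnc
  obtain ⟨y, hyP, -, hyord⟩ := exists_gen hP
  have hy1 : y ≠ 1 := fun h => by rw [h, orderOf_one] at hyord; exact hp.one_lt.ne hyord
  have hdvdG : ∀ χ : IrrCharacter G, Char.degree χ ∣ p * (q ^ b * g₀) := fun χ => by
    rw [← Char.charDegree_eq_degree, ← mul_assoc, ← hcard]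
    exact Char.charDegree_dvd_card χ
  have hblock : ∀ χ ∈ principalBlock M G, ¬ p ∣ Char.degree χ := by
    intro χ hχ hd
    have hd' : (Char.degree χ : ℤ) ≡ 0 [ZMOD p] :=
      Int.modEq_zero_iff_dvd.2 (by exact_mod_cast hd)
    rcases S.mem_XY hχ with h | h
    · have := ((S.X_deg' h).symm.trans hd')
      rw [Int.modEq_zero_iff_dvd] at this
      rcases S.hεX χ h with e' | e' <;> rw [e'] at this
      · exact hp.not_dvd_one (by exact_mod_cast this)
      · exact hp.not_dvd_one (by exact_mod_cast (dvd_neg.1 this))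
    · have := ((S.Y_deg' h).symm.trans hd')
      rw [Int.modEq_zero_iff_dvd] at this
      have h' : (p : ℤ) ∣ (e : ℤ) := by
        rcases S.hε with e' | e' <;> rw [e'] at this
        · simpa using this
        · simpa using this
      have := Nat.le_of_dvd he0 (by exact_mod_cast h')
      omega
  have hqfree : ∀ χ : IrrCharacter G, ¬ p ∣ Char.degree χ → ¬ q ∣ Char.degree χ →
      Char.degree χ ∣ g₀ := by
    intro χ h1 h2
    have h3 : Char.degree χ ∣ q ^ b * g₀ :=
      ((hp.coprime_iff_not_dvd.2 h1).symm.dvd_of_dvd_mul_left (hdvdG χ))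
    exact (Nat.Coprime.pow_right b (hq.coprime_iff_not_dvd.2 h2).symm).dvd_of_dvd_mul_left h3
  obtain ⟨θ, hθT, hθb, hθd⟩ : ∃ θ : IrrCharacter G, θ ≠ T ∧ θ ∈ principalBlock M G ∧
      Char.degree θ ∣ g₀ := by
    by_contra hno
    push Not at hno
    have hsum := sum_block_conj (M := M) hM.2.2 ((freeData_of_card_eq hP).isPPart_self hyP)
      ((freeData_of_card_eq hP).isPPart_self (P := P) (one_mem _))
      (fun hc => hy1 (isConj_one_left.1 hc))
    have hTb : T ∈ Finset.univ.filter (· ∈ principalBlock M G) :=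
      Finset.mem_filter.2 ⟨Finset.mem_univ _, Blocks.sameBlock_refl (fun _ : G => (1 : ℂ))⟩
    rw [← Finset.add_sum_erase _ _ hTb, hT, Char.trivialChar_apply, Char.trivialChar_apply, map_one,
      mul_one, ← hT] at hsum
    let w : IrrCharacter G → ℂ := fun χ => χ.1 y * ((Char.degree χ / q : ℕ) : ℂ)
    have hw : ∀ χ ∈ (Finset.univ.filter (· ∈ principalBlock M G)).erase T,
        χ.1 y * conj (χ.1 1) = (q : ℂ) * w χ := by
      intro χ hχ
      obtain ⟨hne, hb⟩ := Finset.mem_erase.1 hχ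
      have hbl : χ ∈ principalBlock M G := (Finset.mem_filter.1 hb).2
      have hd : q ∣ Char.degree χ := by
        by_contra hd
        exact hno χ hne hbl (hqfree χ (hblock χ hbl) hd)
      simp only [w]
      rw [mul_left_comm, ← Nat.cast_mul, Nat.mul_div_cancel' hd, Char.apply_one_eq_degree,
        Complex.conj_natCast]
    rw [Finset.sum_congr rfl hw, ← Finset.mul_sum] at hsum
    set sw := ∑ χ ∈ (Finset.univ.filter (· ∈ principalBlock M G)).erase T, w χ with hsw
    have hint : IsIntegral ℤ sw := by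
      refine IsIntegral.sum _ fun χ _ => ?_
      exact (CharInt.isIntegral_char (Char.irr_isCharacter χ) y).mul
        (isIntegral_algebraMap (R := ℤ) (A := ℂ) (x := ((Char.degree χ / q : ℕ) : ℤ)))
    have hs : sw = algebraMap ℚ ℂ (-1 / (q : ℚ)) := by
      have hq0 : (q : ℂ) ≠ 0 := Nat.cast_ne_zero.2 hq.ne_zero
      rw [eq_ratCast]
      push_cast
      field_simp
      linear_combination hsum
    rw [hs, isIntegral_algebraMap_iff (algebraMap ℚ ℂ).injective] at hint
    obtain ⟨z, hz'⟩ := IsIntegrallyClosed.isIntegral_iff.1 hint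
    rw [eq_intCast, eq_div_iff (Nat.cast_ne_zero.2 hq.ne_zero)] at hz'
    have hz'' : z * (q : ℤ) = -1 := by exact_mod_cast hz'
    have : (q : ℤ) ∣ 1 := ⟨-z, by linear_combination hz''⟩
    exact hq.not_dvd_one (by exact_mod_cast this)
  have hd2 : 2 ≤ Char.degree θ := by
    have := Char.degree_pos θ
    by_contra h
    exact hθT (hlin θ (by omega))
  have hdlt : Char.degree θ ≤ g₀ := Nat.le_of_dvd (Nat.pos_of_ne_zero hg1) hθd
  have hsc : SelfCent P :=
    selfCent_of_small_degree hP hM.2.2 hθb (faithful hnc hθT) (by omega)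
  have hN : Nat.card (Subgroup.normalizer ((P : Subgroup G) : Set G)) = p * e := by
    rw [← he, hsc.cent]
    have h1 := Subgroup.card_mul_index ((P : Subgroup G).subgroupOf
      (Subgroup.normalizer ((P : Subgroup G) : Set G)))
    rw [Nat.card_congr (Subgroup.subgroupOfEquivOfLe Subgroup.le_normalizer).toEquiv] at h1
    rw [← h1, show Nat.card (P : Subgroup G) = p from hP]
    rfl
  have hsyl : g₀ * q ^ b = Nat.card (Sylow p G) * e := by
    have h1 : Nat.card G = Nat.card (Sylow p G) * (p * e) := by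
      rw [P.card_eq_index_normalizer, ← hN, mul_comm]
      exact (Subgroup.card_mul_index _).symm
    rw [hcard, mul_assoc] at h1
    refine Nat.eq_of_mul_eq_mul_left hp.pos ?_
    linear_combination h1
  have small_mem : ∀ χ : IrrCharacter G, 2 ≤ Char.degree χ → Char.degree χ < p - 1 → χ ∈ S.Y := by
    intro χ h2 hlt
    have hb := hsc.mem_block hM.2.2 (χ := χ) (fun hd => by
      have := Nat.le_of_dvd (by omega) hd
      omega)
    refine (S.mem_XY hb).resolve_left fun hX => ?_
    obtain ⟨k, hk⟩ := Int.modEq_iff_dvd.1 (S.X_deg' hX).symm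
    rcases S.hεX χ hX with e' | e' <;> rw [e'] at hk <;>
      obtain rfl := eq_zero_of_bound hk (by omega) (by omega) <;> omega
  have hθY := small_mem θ hd2 (by omega)
  obtain ⟨d, hd⟩ : ∃ d, Char.degree θ = d := ⟨_, rfl⟩
  rw [hd] at hd2 hdlt hθd
  have hdeg : ∀ χ ∈ S.Y, Char.degree χ = d := fun χ hχ => (S.degree_eq hχ hθY).trans hd
  have hre : (S.ε = 1 ∧ d = e) ∨ (S.ε = -1 ∧ d + e = p) := by
    obtain ⟨k, hk⟩ := Int.modEq_iff_dvd.1 (S.Y_deg' hθY).symm
    rw [hd] at hk
    rcases S.hε with e' | e' <;> rw [e'] at hk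
    · obtain rfl := eq_zero_of_bound hk (by omega) (by omega)
      exact Or.inl ⟨e', by omega⟩
    · obtain rfl := eq_one_of_bound hk (by omega) (by omega)
      exact Or.inr ⟨e', by omega⟩
  obtain ⟨t, ht⟩ : ∃ t, t * e = p - 1 := ⟨(p - 1) / e, Nat.div_mul_cancel S.m_dvd⟩
  have hcY : S.Y.card = t := by rw [S.cardY, ← ht, Nat.mul_div_cancel _ he0]
  have he2 : 2 ≤ e := by rcases hre with ⟨-, h⟩ | ⟨-, h⟩ <;> omega
  have ht2 : 2 ≤ t := by
    by_contra hcon
    interval_cases t
    · omega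
    · rcases hre with ⟨-, h⟩ | ⟨-, h⟩ <;> omega
  have hTX : T ∈ S.X := by
    refine (S.mem_XY (hsc.mem_block hM.2.2 fun hd' => ?_)).resolve_right fun h => ?_
    · rw [hT1] at hd'
      exact hp.not_dvd_one hd'
    · have := hdeg T h
      omega
  have hεT : S.εX T = 1 := by
    have := S.X_val T hTX ⟨y, hyP⟩ (fun h => hy1 (congrArg Subtype.val h))
    rw [hT, Char.trivialChar_apply] at this
    exact_mod_cast this.symm
  have hXq : ∀ χ ∈ S.X.erase T, q ∣ Char.degree χ := by
    intro χ hχ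
    obtain ⟨hne, hX⟩ := Finset.mem_erase.1 hχ
    by_contra hnq
    have h1 := hqfree χ (hblock χ (by rw [S.union]; exact Or.inl hX)) hnq
    have h2 := Nat.le_of_dvd (Nat.pos_of_ne_zero hg1) h1
    have h3 : 2 ≤ Char.degree χ := by
      have := Char.degree_pos χ
      by_contra h
      exact hne (hlin χ (by omega))
    exact Finset.disjoint_left.1 S.disj hX (small_mem χ h3 (by omega))
  have hqr : (q : ℤ) ∣ S.ε * d - 1 := by
    have hrel : S.ε * (d : ℤ) = 1 + ∑ χ ∈ S.X.erase T, S.εX χ * (Char.degree χ : ℤ) := by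
      rw [← hd, S.degree_relation hθY, ← Finset.add_sum_erase _ _ hTX, hεT, hT1]
      norm_num
    rw [hrel, add_sub_cancel_left]
    exact Finset.dvd_sum fun χ hχ => Dvd.dvd.mul_left (by exact_mod_cast hXq χ hχ) _
  -- `g₀ = d`
  have hg0d : g₀ = d := by
    obtain ⟨k, hk⟩ := hθd
    have hk1 : k = 1 := by
      by_contra hk1
      have hk2 : 2 ≤ k := by
        rcases Nat.eq_zero_or_pos k with h | h
        · rw [h, mul_zero] at hk; exact absurd hk hg1
        · omega
      have h2d : d * 2 ≤ g₀ := hk ▸ Nat.mul_le_mul_left d hk2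
      rcases hre with ⟨hε, hde⟩ | ⟨-, hde⟩
      · obtain ⟨ht', -, -⟩ := hsc.exceptional_small hM.2.2 hlin S hε
          (fun θ' h => (hdeg θ' h).trans hde) he2 ht hcY ht2
        subst ht'
        omega
      · have : 2 * e ≤ t * e := Nat.mul_le_mul_right e ht2
        omega
    rw [hk, hk1, mul_one]
  subst g₀
  have hdq : ¬ q ∣ d := hqg
  have shape2 : q = 2 ∧
      ((S.ε = 1 ∧ t = 2 ∧ ∃ c, p + 1 = 2 ^ c) ∨ (S.ε = -1 ∧ ∃ α, 1 ≤ α ∧ e = 2 ^ α)) ∧ d % 2 = 1 := by
    rcases hre with ⟨hε, hde⟩ | ⟨hε, hde⟩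
    · obtain ⟨ht', hodd, χ, hχ, hχd⟩ := hsc.exceptional_small hM.2.2 hlin S hε
        (fun θ' h => (hdeg θ' h).trans hde) he2 ht hcY ht2
      subst ht'
      have hpp : p + 1 = 2 * (d + 1) := by omega
      have hc1 : Nat.Coprime (p + 1) p := by simp
      have hc2 : Nat.Coprime (p + 1) d := by
        rw [hpp]
        refine Nat.Coprime.mul_left ?_ (by simp)
        exact (Nat.prime_two.coprime_iff_not_dvd).2 (by omega)
      have h3 : p + 1 ∣ q ^ b := by
        refine hc2.dvd_of_dvd_mul_right (hc1.dvd_of_dvd_mul_left ?_)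
        rw [← hχd]
        exact hdvdG χ
      obtain ⟨i, -, hi⟩ := (Nat.dvd_prime_pow hq).1 h3
      have hq2 : q = 2 := by
        have : 2 ∣ q ^ i := by rw [← hi]; omega
        exact ((Nat.prime_dvd_prime_iff_eq Nat.prime_two hq).1 (Nat.prime_two.dvd_of_dvd_pow this)).symm
      subst hq2
      exact ⟨rfl, Or.inl ⟨hε, rfl, i, hi⟩, by omega⟩
    · have hce : Nat.Coprime e d := by
        refine (Nat.coprime_add_self_right).1 ?_
        rw [hde]
        exact ((hp.coprime_iff_not_dvd).2 fun h => by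
          have := Nat.le_of_dvd he0 h
          omega).symm
      have hedvd : e ∣ d * q ^ b := hsyl ▸ Dvd.intro_left _ rfl
      obtain ⟨α, -, hα⟩ := (Nat.dvd_prime_pow hq).1 (hce.dvd_of_dvd_mul_left hedvd)
      have hα0 : α ≠ 0 := by rintro rfl; simp at hα; omega
      have h3 : q ∣ e := hα ▸ dvd_pow_self q hα0
      have hq2 : q = 2 := by
        have h1 : q ∣ d + 1 := by
          rw [hε] at hqr
          have : (q : ℤ) ∣ (d : ℤ) + 1 := by
            have := hqr.neg_right
            rwa [show -((-1 : ℤ) * d - 1) = (d : ℤ) + 1 by ring] at this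
          exact_mod_cast this
        have h2 : q ∣ p - 1 := h3.trans S.m_dvd
        have h4 : q ∣ p + 1 := by rw [← hde, Nat.add_right_comm]; exact dvd_add h1 h3
        have h5 : q ∣ 2 := by
          have := Nat.dvd_sub h4 h2
          rwa [show p + 1 - (p - 1) = 2 by omega] at this
        exact (Nat.prime_dvd_prime_iff_eq hq Nat.prime_two).1 h5
      subst hq2
      have hev : e % 2 = 0 := Nat.mod_eq_zero_of_dvd h3
      have hpo : p % 2 = 1 := hp.eq_two_or_odd.resolve_left (by omega)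
      refine ⟨rfl, Or.inr ⟨hε, α, Nat.one_le_iff_ne_zero.2 hα0, hα⟩, ?_⟩
      clear * - hev hpo hde
      omega
  obtain ⟨hq2, hkind, hdodd⟩ := shape2
  subst hq2
  have hn1 : Nat.card (Sylow p G) ≠ 1 := by
    intro h1
    haveI := (Nat.card_eq_one_iff_unique.1 h1).1
    rcases P.normal_of_subsingleton.eq_bot_or_eq_top with hb' | ht'
    · have : Nat.card (P : Subgroup G) = 1 := by rw [hb', Subgroup.card_bot]
      have := hP; omega
    · have h' : Nat.card (P : Subgroup G) = Nat.card G := by rw [ht', Subgroup.card_top]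
      obtain ⟨a, c, hac⟩ := hnc
      haveI : Fact (Nat.card G).Prime :=
        ⟨by rw [← h', show Nat.card (P : Subgroup G) = p from hP]; exact hp⟩
      haveI := isCyclic_of_prime_card (α := G) rfl
      exact hac (IsMulCommutative.is_comm.comm a c)
  have hp5 : 5 ≤ p := by
    clear * - hd2 hdodd hg
    omega
  refine ⟨rfl, P, M, inferInstance, e, t, S, θ,
    ⟨hM.2.2, hsc, hnc, by rw [hcard]; ring, hsyl, ?_, hn1, hd2, hp5, hdodd, hdeg, hre, ht, hcY,
      ht2, he2, hθY, hTX, hεT, ?_, hkind⟩⟩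
  · have := card_sylow_modEq_one p G
    rwa [Nat.ModEq, Nat.one_mod_eq_one.2 hp.ne_one] at this
  · intro χ hχ
    obtain ⟨i, d', hodd', hdd⟩ :=
      Nat.exists_eq_pow_mul_and_not_dvd (Char.degree_pos χ).ne' 2 (by norm_num)
    have hX : χ ∈ S.X := (Finset.mem_erase.1 hχ).2
    have h1 : Char.degree χ ∣ 2 ^ b * d :=
      ((hp.coprime_iff_not_dvd.2 (hblock χ (by rw [S.union]; exact Or.inl hX))).symm.dvd_of_dvd_mul_left
        (hdvdG χ))
    have hc : Nat.Coprime d' 2 := ((Nat.prime_two.coprime_iff_not_dvd).2 hodd').symm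
    refine ⟨i, d', ?_, ?_, hdd, by omega, ?_⟩
    · by_contra hi
      have hi0 : i = 0 := by omega
      rw [hi0, pow_zero, one_mul] at hdd
      exact hodd' (hdd ▸ hXq χ hχ)
    · have h2 : 2 ^ i ∣ 2 ^ b * d := (Dvd.intro d' hdd.symm).trans h1
      have hc2 : Nat.Coprime (2 ^ i) d :=
        Nat.Coprime.pow_left i ((Nat.prime_two.coprime_iff_not_dvd).2 hqg)
      exact (Nat.pow_dvd_pow_iff_le_right (by norm_num)).1 (hc2.dvd_of_dvd_mul_right h2)
    · exact (hc.pow_right b).dvd_of_dvd_mul_left ((Dvd.intro_left _ hdd.symm).trans h1)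

end Cfsg.Agent.DefectOne.SmallCofactor
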